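import Mathlib

/-!
# Orders of products of commutator values

`IsVal k x`: `x` is a value of the left normed commutator of weight `k + 1`.  `Cond G k` is the
order condition on coprime values.  Its basic consequence: if `y` is a value and the iterated
commutator `[g, y, ..., y]` has order prime to that of `y`, then it is trivial.
-/

namespace CfsgLib.ValueOrder

open Subgroup
open scoped commutatorElement

variable {G H : Type*} [Group G] [Group H]

/-- Values of the left normed commutator of weight `k + 1`. -/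
def IsVal : ℕ → G → Prop
  | 0, _ => True
  | k + 1, x => ∃ a b, IsVal k a ∧ ⁅a, b⁆ = x

/-- The order condition on coprime values. -/
def Cond (G : Type*) [Group G] (k : ℕ) : Prop :=
  ∀ x y : G, IsVal k x → IsVal k y → (orderOf x).Coprime (orderOf y) →
    (∀ r : ℕ, r.Prime → r ∣ orderOf x * orderOf y → r ∣ orderOf (x * y)) ∨
      orderOf x * orderOf y ≤ orderOf (x * y)

/-- The iterated commutator `[g, y, ..., y]`. -/
def eng (y : G) (n : ℕ) (g : G) : G := (fun x => ⁅x, y⁆)^[n] g

theorem eng_succ (y g : G) (n : ℕ) : eng y (n + 1) g = ⁅eng y n g, y⁆ :=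
  Function.iterate_succ_apply' _ _ _

theorem eng_zero (y g : G) : eng y 0 g = g := rfl

theorem map_eng (f : G →* H) (y g : G) (n : ℕ) : f (eng y n g) = eng (f y) n (f g) := by
  induction n with
  | zero => rfl
  | succ n ih => rw [eng_succ, eng_succ, map_commutatorElement, ih]

theorem isVal_comm {k : ℕ} {a : G} (h : IsVal k a) (b : G) : IsVal (k + 1) ⁅a, b⁆ := ⟨a, b, h, rfl⟩

theorem isVal_of_succ : ∀ {k : ℕ} {x : G}, IsVal (k + 1) x → IsVal k x
  | 0, _, _ => trivial
  | _ + 1, _, ⟨a, b, ha, hx⟩ => ⟨a, b, isVal_of_succ ha, hx⟩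

theorem isVal_comm' {k : ℕ} {a : G} (h : IsVal k a) (b : G) : IsVal k ⁅a, b⁆ :=
  isVal_of_succ (isVal_comm h b)

theorem isVal_eng (y g : G) : ∀ n, IsVal n (eng y n g)
  | 0 => trivial
  | n + 1 => by rw [eng_succ]; exact isVal_comm (isVal_eng y g n) y

theorem isVal_eng' (y g : G) (k : ℕ) : IsVal k (eng y (k + 1) g) := isVal_of_succ (isVal_eng y g _)

theorem isVal_map (f : G →* H) : ∀ {k : ℕ} {x : G}, IsVal k x → IsVal k (f x)
  | 0, _, _ => trivial
  | _ + 1, _, ⟨a, b, ha, hx⟩ => ⟨f a, f b, isVal_map f ha, by rw [← map_commutatorElement, hx]⟩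

theorem exists_isVal_lift {f : G →* H} (hf : Function.Surjective f) :
    ∀ {k : ℕ} {x : H}, IsVal k x → ∃ g, IsVal k g ∧ f g = x
  | 0, x, _ => let ⟨g, hg⟩ := hf x; ⟨g, trivial, hg⟩
  | _ + 1, _, ⟨a, b, ha, hx⟩ => by
    obtain ⟨a', ha', rfl⟩ := exists_isVal_lift hf ha
    obtain ⟨b', rfl⟩ := hf b
    exact ⟨⁅a', b'⁆, isVal_comm ha' b', by rw [map_commutatorElement, hx]⟩

theorem isVal_mem_lcs : ∀ {k : ℕ} {x : G}, IsVal k x → x ∈ (⊤ : Subgroup G).lowerCentralSeries k
  | 0, _, _ => mem_top _
  | _ + 1, _, ⟨_, _, ha, hx⟩ => hx ▸ commutator_mem_commutator (isVal_mem_lcs ha) (mem_top _)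

/-- A normal subgroup containing all values contains the term of the lower central series. -/
theorem lcs_le : ∀ {k : ℕ} (N : Subgroup G) [N.Normal], (∀ x, IsVal k x → x ∈ N) →
    (⊤ : Subgroup G).lowerCentralSeries k ≤ N
  | 0, _, _, h => fun x _ => h x trivial
  | k + 1, N, _, h => by
    set Z := (center (G ⧸ N)).comap (QuotientGroup.mk' N) with hZ
    have hle : (⊤ : Subgroup G).lowerCentralSeries k ≤ Z := lcs_le Z fun a ha => by
      rw [hZ, mem_comap, mem_center_iff]
      intro q
      obtain ⟨b, rfl⟩ := QuotientGroup.mk'_surjective N q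
      refine (commutatorElement_eq_one_iff_mul_comm.mp ?_).symm
      rw [← map_commutatorElement, QuotientGroup.mk'_apply, QuotientGroup.eq_one_iff]
      exact h _ (isVal_comm ha b)
    rw [Subgroup.lowerCentralSeries_succ, commutator_le]
    intro a ha b _
    rw [← QuotientGroup.eq_one_iff, ← QuotientGroup.mk'_apply, map_commutatorElement,
      commutatorElement_eq_one_iff_mul_comm]
    exact (mem_center_iff.mp (hle ha) _).symm

/-- The values are the ones of the statement. -/
theorem isVal_iff : ∀ {k : ℕ} {x : G}, IsVal k x ↔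
    ∃ f : Fin (k + 1) → G, x = ((List.ofFn f).tail).foldl (fun a b => a * b * a⁻¹ * b⁻¹) (f 0)
  | 0, x => ⟨fun _ => ⟨fun _ => x, by simp⟩, fun _ => trivial⟩
  | k + 1, x => by
    have key : ∀ f : Fin (k + 2) → G,
        ((List.ofFn f).tail).foldl (fun a b => a * b * a⁻¹ * b⁻¹) (f 0) =
          ⁅((List.ofFn fun i : Fin (k + 1) => f i.castSucc).tail).foldl
            (fun a b => a * b * a⁻¹ * b⁻¹) (f 0), f (Fin.last _)⁆ := by
      intro f
      have e : List.ofFn f = (List.ofFn fun i : Fin (k + 1) => f i.castSucc) ++ [f (Fin.last _)] := by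
        rw [List.ofFn_succ', List.concat_eq_append]
      rw [e, List.tail_append_of_ne_nil (by simp), List.foldl_append]
      simp [commutatorElement_def]
    constructor
    · rintro ⟨a, b, ha, rfl⟩
      obtain ⟨f, rfl⟩ := isVal_iff.mp ha
      refine ⟨Fin.snoc f b, ?_⟩
      rw [key]
      simp only [Fin.snoc_castSucc, Fin.snoc_last]
      congr 2
    · rintro ⟨f, rfl⟩
      rw [key]
      refine ⟨_, _, isVal_iff.mpr ⟨fun i => f i.castSucc, ?_⟩, rfl⟩
      simp

theorem cond_iff {k : ℕ} : Cond G k ↔ ∀ x y : G,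
    (∃ f : Fin (k + 1) → G, x = ((List.ofFn f).tail).foldl (fun a b => a * b * a⁻¹ * b⁻¹) (f 0)) →
    (∃ f : Fin (k + 1) → G, y = ((List.ofFn f).tail).foldl (fun a b => a * b * a⁻¹ * b⁻¹) (f 0)) →
    (orderOf x).Coprime (orderOf y) →
      (∀ r : ℕ, r.Prime → r ∣ orderOf x * orderOf y → r ∣ orderOf (x * y)) ∨
        orderOf x * orderOf y ≤ orderOf (x * y) :=
  ⟨fun h x y hx hy => h x y (isVal_iff.mpr hx) (isVal_iff.mpr hy),
    fun h x y hx hy => h x y (isVal_iff.mp hx) (isVal_iff.mp hy)⟩

theorem cond_subgroup {k : ℕ} (h : Cond G k) (K : Subgroup G) : Cond K k := fun x y hx hy hxy => by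
  simpa [← Subgroup.orderOf_coe] using h x y (isVal_map K.subtype hx) (isVal_map K.subtype hy)
    (by simpa using hxy)

/-- The basic consequence of the condition. -/
theorem eng_eq_one [Finite G] {k : ℕ} (h : Cond G k) {y : G} (hy : IsVal k y) (g : G)
    (hco : (orderOf (eng y (k + 1) g)).Coprime (orderOf y)) : eng y (k + 1) g = 1 := by
  by_contra hne
  set v := eng y (k + 1) g
  have hvy : v * y = eng y k g * y * (eng y k g)⁻¹ := by
    show eng y (k + 1) g * y = _
    rw [eng_succ, commutatorElement_def, inv_mul_cancel_right]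
  have ho : orderOf (v * y) = orderOf y := by
    rw [hvy]
    exact orderOf_injective (MulAut.conj (eng y k g)).toMonoidHom (MulAut.conj _).injective y
  have hv1 : orderOf v ≠ 1 := fun e => hne (orderOf_eq_one_iff.mp e)
  rcases h v y (isVal_eng' y g k) hy hco with hc | hc
  · obtain ⟨r, hr, hrv⟩ := Nat.exists_prime_and_dvd hv1
    exact hr.not_dvd_one (hco ▸
      Nat.dvd_gcd hrv (ho ▸ hc r hr (dvd_mul_of_dvd_left hrv _)))
  · rw [ho] at hc
    have h1 : orderOf v ≤ 1 := Nat.le_of_mul_le_mul_right (by rwa [one_mul]) (orderOf_pos y)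
    have := orderOf_pos v
    omega

/-- Coprime Engel elements centralise. -/
theorem commute_of_eng_eq_one [Finite G] {g : G} (Q : Subgroup G)
    (hQ : ∀ q ∈ Q, ⁅q, g⁆ ∈ Q) (hco : ∀ q ∈ Q, (orderOf q).Coprime (orderOf g)) :
    ∀ {n : ℕ} {q : G}, q ∈ Q → eng g n q = 1 → Commute q g
  | 0, q, _, h => by rw [eng_zero] at h; rw [h]; exact Commute.one_left g
  | n + 1, q, hq, h => by
    have h' : eng g n ⁅q, g⁆ = 1 := by rw [eng, ← Function.iterate_succ_apply]; exact h
    have hc := commute_of_eng_eq_one Q hQ hco (hQ q hq) h'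
    set c := ⁅q, g⁆
    have e : q * g * q⁻¹ = c * g := by
      show _ = ⁅q, g⁆ * g
      rw [commutatorElement_def, inv_mul_cancel_right]
    have ho : (c * g) ^ orderOf g = 1 := by rw [← e, conj_pow, pow_orderOf_eq_one]; group
    rw [hc.mul_pow, pow_orderOf_eq_one, mul_one] at ho
    exact commutatorElement_eq_one_iff_commute.mp (orderOf_eq_one_iff.mp
      (Nat.eq_one_of_dvd_coprimes (hco c (hQ q hq)) dvd_rfl (orderOf_dvd_of_pow_eq_one ho)))

/-- A value centralises every subgroup of coprime order it normalises. -/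
theorem commute_of_normalizes [Finite G] {k : ℕ} (h : Cond G k) {y : G} (hy : IsVal k y)
    (N : Subgroup G) (hN : ∀ n ∈ N, y * n * y⁻¹ ∈ N) (hco : (Nat.card N).Coprime (orderOf y))
    {n : G} (hn : n ∈ N) : Commute n y := by
  have hQ : ∀ q ∈ N, ⁅q, y⁆ ∈ N := fun q hq => by
    rw [commutatorElement_def, mul_assoc, mul_assoc]
    exact mul_mem hq (by rw [← mul_assoc]; exact hN _ (inv_mem hq))
  have hco' : ∀ q ∈ N, (orderOf q).Coprime (orderOf y) := fun q hq =>
    hco.coprime_dvd_left (by
      rw [← Subgroup.orderOf_mk q hq]; exact orderOf_dvd_natCard _)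
  have hmem : ∀ j, eng y j n ∈ N := by
    intro j
    induction j with
    | zero => exact hn
    | succ j ih => rw [eng_succ]; exact hQ _ ih
  exact commute_of_eng_eq_one N hQ hco' hn (eng_eq_one h hy n (hco' _ (hmem _)))

/-- Elements of coprime order of a nilpotent group commute. -/
theorem commute_of_coprime {N : Type*} [Group N] [Group.IsNilpotent N] :
    ∀ x y : N, (orderOf x).Coprime (orderOf y) → Commute x y := by
  refine Group.nilpotent_center_quotient_ind
    (P := fun M _ _ => ∀ x y : M, (orderOf x).Coprime (orderOf y) → Commute x y) N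
    (fun M _ _ x y _ => Subsingleton.elim (x * y) (y * x)) fun M _ _ ih x y hxy => ?_
  have h1 := ih (x : M ⧸ center M) (y : M ⧸ center M)
    ((hxy.coprime_dvd_left (orderOf_map_dvd (QuotientGroup.mk' _) x)).coprime_dvd_right
      (orderOf_map_dvd (QuotientGroup.mk' _) y))
  rw [← commutatorElement_eq_one_iff_commute] at h1 ⊢
  change QuotientGroup.mk' (center M) ⁅x, y⁆ = 1 at h1
  have hcen := (QuotientGroup.eq_one_iff _).mp h1
  set c := ⁅x, y⁆
  have hcx : c ^ orderOf x = 1 := by
    have e : y * x * y⁻¹ = c⁻¹ * x := by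
      show _ = ⁅x, y⁆⁻¹ * x
      rw [commutatorElement_def]; group
    have := congrArg (· ^ orderOf x) e
    simp only [conj_pow, pow_orderOf_eq_one, mul_one, mul_inv_cancel,
      (show Commute c⁻¹ x from Commute.inv_left (show Commute c x from (mem_center_iff.mp hcen x).symm)).mul_pow]
      at this
    rwa [eq_comm, inv_pow, inv_eq_one] at this
  have hcy : c ^ orderOf y = 1 := by
    have e : x * y * x⁻¹ = c * y := by
      show _ = ⁅x, y⁆ * y
      rw [commutatorElement_def, inv_mul_cancel_right]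
    have := congrArg (· ^ orderOf y) e
    simp only [conj_pow, pow_orderOf_eq_one, mul_one, mul_inv_cancel,
      (show Commute c y from (mem_center_iff.mp hcen y).symm).mul_pow] at this
    exact this.symm
  exact orderOf_eq_one_iff.mp (Nat.eq_one_of_dvd_coprimes hxy
    (orderOf_dvd_of_pow_eq_one hcx) (orderOf_dvd_of_pow_eq_one hcy))

/-- If the term of the lower central series is nilpotent, the condition holds. -/
theorem cond_of_isNilpotent {k : ℕ}
    (h : Group.IsNilpotent ↥((⊤ : Subgroup G).lowerCentralSeries k)) : Cond G k := by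
  have := h
  intro x y hx hy hxy
  refine Or.inr (le_of_eq ?_)
  have hc := commute_of_coprime (⟨x, isVal_mem_lcs hx⟩ : (⊤ : Subgroup G).lowerCentralSeries k)
    ⟨y, isVal_mem_lcs hy⟩ (by simpa [← Subgroup.orderOf_coe] using hxy)
  exact ((congrArg Subtype.val hc.eq : x * y = y * x) |> fun e =>
    (Commute.orderOf_mul_eq_mul_orderOf_of_coprime e hxy).symm)

end CfsgLib.ValueOrder
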