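import Cfsg.Agent.ValueOrder.Nilpotency
import Cfsg.Agent.OddOrder.BG4.Metacyclic
import Cfsg.Agent.S0200

/-!
# The order condition implies solvability, given the odd order theorem
-/

namespace CfsgLib.ValueOrder

open Subgroup
open scoped commutatorElement

set_option linter.style.haveILetI false

universe u

variable {G : Type u} [Group G] [Finite G]

/-- Lifting a `p`-subgroup and a normalising element of order prime to `p` along a quotient. -/
theorem exists_lift_normalizer {p : ℕ} [hp : Fact p.Prime] (R : Subgroup G) [R.Normal]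
    {Q : Subgroup (G ⧸ R)} (hQ : IsPGroup p Q) {g : G ⧸ R} (hg : g ∈ normalizer (Q : Set (G ⧸ R)))
    (hgp : (orderOf g).Coprime p) :
    ∃ (P : Subgroup G) (y : G), IsPGroup p P ∧ (∀ z ∈ P, ⁅z, y⁆ ∈ P) ∧ (orderOf y).Coprime p ∧
      P.map (QuotientGroup.mk' R) = Q ∧ QuotientGroup.mk' R y = g := by
  set q := QuotientGroup.mk' R with hq
  set X := (normalizer (Q : Set (G ⧸ R))).comap q with hX
  set N := Q.comap q
  have hNX : N ≤ X := comap_mono le_normalizer
  haveI hNn : (N.subgroupOf X).Normal := by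
    refine ⟨fun a ha x => ?_⟩
    show q ((x : G) * a * (x : G)⁻¹) ∈ Q
    rw [map_mul, map_mul, map_inv]
    exact (mem_normalizer_iff.mp x.2 _).mp ha
  obtain ⟨P0⟩ : Nonempty (Sylow p (N.subgroupOf X)) := inferInstance
  set P := ((P0 : Subgroup (N.subgroupOf X)).map (N.subgroupOf X).subtype).map X.subtype with hP
  have hPp : IsPGroup p P := (P0.isPGroup'.map _).map _
  have hF := P0.normalizer_sup_eq_top
  let θ : N.subgroupOf X →* Q :=
    ((q.comp X.subtype).comp (N.subgroupOf X).subtype).codRestrict Q fun a => a.2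
  have hθ : Function.Surjective θ := fun v => by
    obtain ⟨w, hw⟩ := QuotientGroup.mk'_surjective R (v : G ⧸ R)
    have hwN : w ∈ N := by show q w ∈ Q; rw [hq, hw]; exact v.2
    exact ⟨⟨⟨w, hNX hwN⟩, hwN⟩, Subtype.ext hw⟩
  have htop : (P0.mapSurjective hθ : Subgroup Q) = ⊤ :=
    top_unique ((hQ.to_subgroup ⊤).le_sylow_of_normal _)
  rw [Sylow.coe_mapSurjective] at htop
  have hmap : P.map q = Q := by
    refine le_antisymm ?_ fun v hv => ?_
    · rintro _ ⟨_, ⟨_, ⟨a, -, rfl⟩, rfl⟩, rfl⟩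
      exact a.2
    · obtain ⟨a, ha, hav⟩ := mem_map.mp (htop.ge (mem_top ⟨v, hv⟩))
      exact ⟨_, ⟨_, ⟨a, ha, rfl⟩, rfl⟩, congrArg Subtype.val hav⟩
  -- the normaliser of `P` maps onto the normaliser of `Q`
  obtain ⟨x, hx⟩ := QuotientGroup.mk'_surjective R g
  have hxX : x ∈ X := by show q x ∈ normalizer (Q : Set (G ⧸ R)); rw [hq, hx]; exact hg
  obtain ⟨a, ha, b, hb, hab⟩ := mem_sup_of_normal_right.mp (hF.ge (mem_top (⟨x, hxX⟩ : X)))
  obtain ⟨c, hc, hcb⟩ := mem_map.mp (hmap.ge (show q (b : G) ∈ Q from hb))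
  have hcX : c ∈ X := map_subtype_le _ hc
  have haN : ∀ z ∈ P, ((a : G) * c) * z * ((a : G) * c)⁻¹ ∈ P := by
    intro z hz
    obtain ⟨z', hz', hz''⟩ := mem_map.mp (mul_mem (mul_mem hc hz) (inv_mem hc) : c * z * c⁻¹ ∈ P)
    refine ⟨a * z' * a⁻¹, (mem_normalizer_iff.mp ha _).mp hz', ?_⟩
    show (a : G) * z' * (a : G)⁻¹ = _
    rw [show (z' : G) = c * z * c⁻¹ from hz'']
    group
  have himg : q ((a : G) * c) = g := by
    rw [map_mul, hcb, ← map_mul, hq, ← hx]
    exact congrArg (fun w : X => QuotientGroup.mk' R (w : G)) hab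
  have hac : (a : G) * c ∈ normalizer (P : Set G) := by
    rw [mem_normalizer_iff]
    intro z
    refine ⟨haN z, fun hz => ?_⟩
    have hinj : ((MulAut.conj ((a : G) * c)).toMonoidHom : G →* G) '' (P : Set G) = P := by
      refine Set.eq_of_subset_of_ncard_le ?_ ?_ (Set.toFinite _)
      · rintro _ ⟨w, hw, rfl⟩; exact haN w hw
      · exact (Set.ncard_image_of_injective _ (MulAut.conj _).injective).ge
    obtain ⟨w, hw, hwz⟩ := hinj.ge hz
    have hwz' : (a : G) * c * w * ((a : G) * c)⁻¹ = (a : G) * c * z * ((a : G) * c)⁻¹ := hwz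
    rwa [mul_left_cancel (mul_right_cancel hwz')] at hw
  obtain ⟨y, hy, hyq⟩ := exists_coprime_lift hp.out
    (q.comp (normalizer (P : Set G)).subtype) ⟨_, hac⟩ (by
      show (orderOf (q ((a : G) * c))).Coprime p
      rw [himg]; exact hgp)
  refine ⟨P, y, hPp, fun z hz => ?_, by rwa [Subgroup.orderOf_coe], hmap, hyq.trans himg⟩
  rw [commutatorElement_def, mul_assoc, mul_assoc]
  exact mul_mem hz (by
    rw [← mul_assoc]; exact (mem_normalizer_iff.mp y.2 _).mp (inv_mem hz))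

/-- In a simple nonabelian group some element of order prime to `p` normalises a `p`-subgroup
without centralising it. -/
theorem exists_action {S : Type*} [Group S] [Finite S] [IsSimpleGroup S]
    (hna : ¬ IsMulCommutative S) {p : ℕ} [hp : Fact p.Prime] (hpd : p ∣ Nat.card S) :
    ∃ (Q : Subgroup S) (g : S), IsPGroup p Q ∧ g ∈ normalizer (Q : Set S) ∧
      (orderOf g).Coprime p ∧ g ∉ centralizer (Q : Set S) := by
  by_contra hcon
  push Not at hcon
  have hN := CfsgLib.Transfer.hasNormalPComplement_of_local (default : Sylow p S)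
    fun Q hQ g hg hgp => hcon Q g ((default : Sylow p S).isPGroup'.to_le hQ) hg hgp
  obtain ⟨P, N, hn, hc⟩ := hN
  rcases hn.eq_bot_or_eq_top with e | e
  · subst e
    have hP : (P : Subgroup S) = ⊤ := isComplement'_bot_left.mp hc
    haveI : IsPGroup p S := fun x => by
      obtain ⟨i, hi⟩ := P.isPGroup' ⟨x, hP.ge (mem_top x)⟩
      exact ⟨i, by simpa using congrArg Subtype.val hi⟩
    haveI := this.isNilpotent
    exact hna ⟨⟨fun a b => IsSimpleGroup.comm_iff_isSolvable.mpr inferInstance a b⟩⟩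
  · subst e
    exact P.ne_bot_of_dvd_card hpd (isComplement'_top_left.mp hc)

/-- A value of `2`-power order whose image is an involution, given an action as above. -/
theorem exists_involution_value (k : ℕ) (R : Subgroup G) [R.Normal] {Q : Subgroup (G ⧸ R)}
    (hQ : IsPGroup 2 Q) {g : G ⧸ R} (hg : g ∈ normalizer (Q : Set (G ⧸ R)))
    (hgp : (orderOf g).Coprime 2) (hgc : g ∉ centralizer (Q : Set (G ⧸ R))) :
    ∃ t : G, IsVal k t ∧ (∃ i, orderOf t = 2 ^ i) ∧ orderOf (QuotientGroup.mk' R t) = 2 := by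
  haveI : Fact (Nat.Prime 2) := ⟨Nat.prime_two⟩
  -- a minimal subgroup which is normalised but not centralised
  obtain ⟨Q0, ⟨hQ0le, hQ0n, hQ0c⟩, hmin⟩ := Set.Finite.exists_minimal
    (s := {V : Subgroup (G ⧸ R) | V ≤ Q ∧ g ∈ normalizer (V : Set (G ⧸ R)) ∧
      g ∉ centralizer (V : Set (G ⧸ R))}) (Set.toFinite _) ⟨Q, le_rfl, hg, hgc⟩
  obtain ⟨P, y, hP, hPy, -, hPQ, hyg⟩ := exists_lift_normalizer R (hQ.to_le hQ0le) hQ0n hgp
  have hcomm : ∀ v ∈ Q0, ⁅v, g⁆ ∈ Q0 := fun v hv => by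
    rw [commutatorElement_def, mul_assoc, mul_assoc]
    exact mul_mem hv (by
      rw [← mul_assoc]; exact (mem_normalizer_iff.mp hQ0n _).mp (inv_mem hv))
  have hengmem : ∀ v ∈ Q0, ∀ j, eng g j v ∈ Q0 := fun v hv j => by
    induction j with
    | zero => exact hv
    | succ j ih => rw [eng_succ]; exact hcomm _ ih
  have hcoQ : ∀ v ∈ Q0, (orderOf v).Coprime (orderOf g) := fun v hv => by
    obtain ⟨i, hi⟩ := IsPGroup.iff_orderOf.mp hQ ⟨v, hQ0le hv⟩
    rw [Subgroup.orderOf_mk] at hi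
    rw [hi]
    exact (hgp.pow_right i).symm
  -- a proper invariant subgroup is centralised
  have hprop : ∀ V : Subgroup (G ⧸ R), V ≤ Q0 → V ≠ Q0 → (∀ v ∈ V, g * v * g⁻¹ ∈ V) →
      ∀ v ∈ V, Commute g v := by
    intro V hV hne hinv v hv
    have hgn : g ∈ normalizer (V : Set (G ⧸ R)) := by
      rw [mem_normalizer_iff]
      intro w
      refine ⟨hinv w, fun hw => ?_⟩
      have hinj : ((MulAut.conj g).toMonoidHom : (G ⧸ R) →* G ⧸ R) '' (V : Set (G ⧸ R)) = V := by
        refine Set.eq_of_subset_of_ncard_le ?_ ?_ (Set.toFinite _)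
        · rintro _ ⟨u, hu, rfl⟩; exact hinv u hu
        · exact (Set.ncard_image_of_injective _ (MulAut.conj _).injective).ge
      obtain ⟨u, hu, huw⟩ := hinj.ge hw
      have huw' : g * u * g⁻¹ = g * w * g⁻¹ := huw
      rwa [mul_left_cancel (mul_right_cancel huw')] at hu
    by_contra hc
    exact hne (le_antisymm hV (hmin ⟨hV.trans hQ0le, hgn,
      fun hcent => hc (show Commute g v from (hcent v hv).symm)⟩ hV))
  -- `Q0` is generated by its iterated commutators
  set Q1 := closure {x | ∃ v ∈ Q0, eng g (k + 1) v = x} with hQ1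
  have hQ1le : Q1 ≤ Q0 := (closure_le _).mpr fun x ⟨v, hv, hvx⟩ => hvx ▸ hengmem v hv _
  have hQ1eq : Q1 = Q0 := by
    by_contra hne
    have hinv : ∀ v ∈ Q1, g * v * g⁻¹ ∈ Q1 := by
      intro v hv
      induction hv using closure_induction with
      | mem x hx =>
        obtain ⟨w, hw, rfl⟩ := hx
        refine subset_closure ⟨g * w * g⁻¹, (mem_normalizer_iff.mp hQ0n _).mp hw, ?_⟩
        have h1 := map_eng (MulAut.conj g).toMonoidHom g w (k + 1)
        simp only [MulEquiv.toMonoidHom_eq_coe, MonoidHom.coe_coe, MulAut.conj_apply,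
          mul_inv_cancel_right] at h1
        exact h1.symm
      | one => simp
      | mul a b _ _ iha ihb => rw [← conj_mul]; exact mul_mem iha ihb
      | inv a _ iha => rw [← conj_inv]; exact inv_mem iha
    apply hQ0c
    intro v hv
    refine (commute_of_eng_eq_one Q0 hcomm hcoQ hv (n := k + 2) ?_).eq
    rw [eng_succ, commutatorElement_eq_one_iff_commute]
    exact (hprop Q1 hQ1le hne hinv _ (subset_closure ⟨v, hv, rfl⟩)).symm
  -- the subgroup generated by the squares is central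
  set A := (CfsgLib.OddOrder.BG4.agemo 2 Q0).map Q0.subtype with hA
  have hA2 : ∀ v ∈ Q0, v ^ 2 ∈ A := fun v hv =>
    ⟨_, CfsgLib.OddOrder.BG4.pow_mem_agemo (⟨v, hv⟩ : Q0), rfl⟩
  have hAle : A ≤ Q0 := map_subtype_le _
  have hAne : A ≠ Q0 := by
    intro e
    have h1 : CfsgLib.OddOrder.BG4.agemo 2 Q0 = ⊤ := top_unique fun v _ => by
      obtain ⟨w, hw, hwv⟩ := mem_map.mp (e.ge v.2)
      rwa [← Subtype.ext hwv]
    have h2 : (⊤ : Subgroup Q0) ≤ frattini Q0 :=
      h1.ge.trans (CfsgLib.OddOrder.BG4.agemo_le_frattini (hQ.to_le hQ0le))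
    have h3 : (⊥ : Subgroup Q0) = ⊤ := frattini_nongenerating (top_unique (h2.trans le_sup_right))
    refine hQ0c fun v hv => ?_
    have hv1 : v = 1 := by simpa using h3.ge (mem_top (⟨v, hv⟩ : Q0))
    rw [hv1, one_mul, mul_one]
  have hAconj : ∀ b : G ⧸ R, (∀ v ∈ Q0, b * v * b⁻¹ ∈ Q0) → ∀ v ∈ A, b * v * b⁻¹ ∈ A := by
    intro b hb
    have : A = closure {x | ∃ v ∈ Q0, v ^ 2 = x} := by
      refine le_antisymm ?_ ((closure_le _).mpr fun x ⟨v, hv, hx⟩ => hx ▸ hA2 v hv)
      rw [hA, map_le_iff_le_comap, CfsgLib.OddOrder.BG4.agemo, closure_le]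
      rintro _ ⟨v, rfl⟩
      exact subset_closure ⟨v, v.2, by simp⟩
    rw [this]
    intro v hv
    induction hv using closure_induction with
    | mem x hx =>
      obtain ⟨w, hw, rfl⟩ := hx
      exact subset_closure ⟨_, hb w hw, conj_pow⟩
    | one => simp
    | mul a b _ _ iha ihb => rw [← conj_mul]; exact mul_mem iha ihb
    | inv a _ iha => rw [← conj_inv]; exact inv_mem iha
  have hAg := hprop A hAle hAne (hAconj g fun v hv => (mem_normalizer_iff.mp hQ0n v).mp hv)
  have hAcen : ∀ m ∈ A, ∀ v ∈ Q0, Commute m v := by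
    intro m hm v hv
    have hgen : ∀ w ∈ Q0, Commute m ⁅w, g⁆ := by
      intro w hw
      have hm' : w⁻¹ * m * w ∈ A := by
        simpa using hAconj w⁻¹ (fun u hu => mul_mem (mul_mem (inv_mem hw) hu) (by simpa using hw))
          m hm
      have h1 : g * (w⁻¹ * m * w) * g⁻¹ = w⁻¹ * m * w := by
        rw [(hAg _ hm').eq, mul_inv_cancel_right]
      have h2 : g * m = m * g := (hAg m hm).eq
      show m * ⁅w, g⁆ = ⁅w, g⁆ * m
      rw [commutatorElement_def]
      calc m * (w * g * w⁻¹ * g⁻¹) = w * (w⁻¹ * m * w) * g * w⁻¹ * g⁻¹ := by group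
        _ = w * (g * (w⁻¹ * m * w) * g⁻¹) * g * w⁻¹ * g⁻¹ := by rw [h1]
        _ = w * g * w⁻¹ * (m * g⁻¹) := by group
        _ = w * g * w⁻¹ * (g⁻¹ * m) := by rw [((hAg m hm).inv_left).eq.symm]
        _ = w * g * w⁻¹ * g⁻¹ * m := by group
    have hle : Q1 ≤ centralizer ({m} : Set (G ⧸ R)) := by
      rw [hQ1, closure_le]
      rintro x ⟨w, hw, rfl⟩
      rw [eng_succ]
      exact mem_centralizer_singleton_iff.mpr (hgen _ (hengmem w hw k)).eq.symm
    exact (mem_centralizer_singleton_iff.mp ((hQ1eq ▸ hle) hv)).symm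
  have hAcomm : ∀ a ∈ Q0, ∀ b ∈ Q0, ⁅a, b⁆ ∈ A := by
    intro a ha b hb
    have e : ⁅a, b⁆ = (a * b) ^ 2 * (b⁻¹ * (a ^ 2)⁻¹ * b) * (b ^ 2)⁻¹ := by
      rw [commutatorElement_def, sq, sq, sq]; group
    rw [e]
    refine mul_mem (mul_mem (hA2 _ (mul_mem ha hb)) ?_) (inv_mem (hA2 b hb))
    simpa using hAconj b⁻¹ (fun u hu => mul_mem (mul_mem (inv_mem hb) hu) (by simpa using hb))
      _ (inv_mem (hA2 a ha))
  have hsq : ∀ a ∈ Q0, ∀ b, (∀ v ∈ Q0, b * v * b⁻¹ ∈ Q0) → Commute (a ^ 2) b →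
      Commute a ⁅a, b⁆ → ⁅a, b⁆ ^ 2 = 1 := by
    intro a ha b hb hab hac
    have h1 : b * a * b⁻¹ = ⁅a, b⁆⁻¹ * a := by rw [commutatorElement_def]; group
    have h2 : (b * a * b⁻¹) ^ 2 = a ^ 2 := by rw [conj_pow, ← hab.eq, mul_inv_cancel_right]
    rw [h1, (hac.symm.inv_left).mul_pow, mul_eq_right, inv_pow, inv_eq_one] at h2
    exact h2
  -- lifting
  have hlift : ∀ v ∈ Q0, ∃ x ∈ P, QuotientGroup.mk' R x = v := fun v hv => mem_map.mp (hPQ.ge hv)
  have hval : ∀ v ∈ Q0, ∃ x ∈ P, IsVal k x ∧ QuotientGroup.mk' R x = eng g (k + 1) v := by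
    intro v hv
    obtain ⟨x, hx, rfl⟩ := hlift v hv
    refine ⟨eng y (k + 1) x, ?_, isVal_eng' y x k, by rw [map_eng, hyg]⟩
    have : ∀ j, eng y j x ∈ P := fun j => by
      induction j with
      | zero => exact hx
      | succ j ih => rw [eng_succ]; exact hPy _ ih
    exact this _
  suffices ∃ x ∈ P, IsVal k x ∧ orderOf (QuotientGroup.mk' R x) = 2 by
    obtain ⟨x, hx, hxv, hx2⟩ := this
    obtain ⟨i, hi⟩ := IsPGroup.iff_orderOf.mp hP ⟨x, hx⟩
    exact ⟨x, hxv, ⟨i, by rwa [Subgroup.orderOf_mk] at hi⟩, hx2⟩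
  by_cases hab : ∀ a ∈ Q0, ∀ b ∈ Q0, Commute a b
  · obtain ⟨v, hv, hv1⟩ : ∃ v ∈ Q0, eng g (k + 1) v ≠ 1 := by
      by_contra hall
      push Not at hall
      exact hQ0c fun v hv => (commute_of_eng_eq_one Q0 hcomm hcoQ hv (hall v hv)).eq
    obtain ⟨x, hx, hxv, hxe⟩ := hval v hv
    refine ⟨x, hx, hxv, ?_⟩
    rw [hxe]
    refine orderOf_eq_prime ?_ hv1
    rw [eng_succ]
    refine hsq _ (hengmem v hv k) g (fun u hu => (mem_normalizer_iff.mp hQ0n u).mp hu)
      (hAg _ (hA2 _ (hengmem v hv k))).symm ?_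
    exact hab _ (hengmem v hv k) _ (hcomm _ (hengmem v hv k))
  · obtain ⟨v, hv, b, hb, hvb⟩ : ∃ v ∈ Q0, ∃ b ∈ Q0, ¬ Commute (eng g (k + 1) v) b := by
      by_contra hall
      push Not at hall
      refine hab fun a ha b hb => ?_
      have hle : Q1 ≤ centralizer ({b} : Set (G ⧸ R)) := by
        rw [hQ1, closure_le]
        rintro x ⟨w, hw, rfl⟩
        exact mem_centralizer_singleton_iff.mpr (hall w hw b hb).eq
      exact mem_centralizer_singleton_iff.mp ((hQ1eq ▸ hle) ha)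
    obtain ⟨x, hx, hxv, hxe⟩ := hval v hv
    obtain ⟨w, hw, rfl⟩ := hlift b hb
    refine ⟨⁅x, w⁆, ?_, isVal_comm' hxv w, ?_⟩
    · rw [commutatorElement_def]
      exact mul_mem (mul_mem (mul_mem hx hw) (inv_mem hx)) (inv_mem hw)
    rw [map_commutatorElement, hxe]
    refine orderOf_eq_prime ?_ fun e => hvb (commutatorElement_eq_one_iff_commute.mp e)
    exact hsq _ (hengmem v hv _) _ (fun u hu => mul_mem (mul_mem hb hu) (inv_mem hb))
      (hAcen _ (hA2 _ (hengmem v hv _)) _ hb)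
      (hAcen _ (hAcomm _ (hengmem v hv _) _ hb) _ (hengmem v hv _)).symm

/-- Given the odd order theorem, the order condition implies solvability. -/
theorem isSolvable_of_cond
    (hFT : ∀ (H : Type u) [Group H] [Finite H], Odd (Nat.card H) → Group.IsSolvable H)
    {k : ℕ} (h : Cond G k) : Group.IsSolvable G := by
  suffices H : ∀ (n : ℕ) (G : Type u) [Group G] [Finite G], Nat.card G = n → Cond G k →
      Group.IsSolvable G from H _ G rfl h
  clear h
  intro n
  induction n using Nat.strong_induction_on with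
  | _ n ih =>
  intro G _ _ hn h
  by_contra hns
  have hsub : ∀ M : Subgroup G, M ≠ ⊤ → Group.IsSolvable M := fun M hM =>
    ih _ (hn ▸ lt_of_le_of_ne (card_le_card_group M) fun e => hM (eq_top_of_card_eq M e)) M rfl
      (cond_subgroup h M)
  haveI : Nontrivial G := by
    by_contra hh
    rw [not_nontrivial_iff_subsingleton] at hh
    exact hns (Group.isSolvable_of_comm fun a b => Subsingleton.elim _ _)
  obtain ⟨R, ⟨hRn, hRne⟩, hRmax⟩ := Set.Finite.exists_maximal
    (s := {N : Subgroup G | N.Normal ∧ N ≠ ⊤}) (Set.toFinite _) ⟨⊥, inferInstance, bot_ne_top⟩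
  haveI := hRn
  haveI : Nontrivial (G ⧸ R) := QuotientGroup.nontrivial_iff.mpr hRne
  haveI hsimple : IsSimpleGroup (G ⧸ R) := by
    refine ⟨fun L hL => ?_⟩
    have hle : R ≤ L.comap (QuotientGroup.mk' R) := fun x hx => by
      rw [mem_comap, QuotientGroup.mk'_apply, (QuotientGroup.eq_one_iff x).mpr hx]
      exact one_mem _
    by_cases htop : L.comap (QuotientGroup.mk' R) = ⊤
    · exact Or.inr (top_unique fun x _ => by
        obtain ⟨y, rfl⟩ := QuotientGroup.mk'_surjective R x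
        exact htop.ge (mem_top y))
    · refine Or.inl ((Subgroup.eq_bot_iff_forall L).mpr fun x hx => ?_)
      obtain ⟨y, rfl⟩ := QuotientGroup.mk'_surjective R x
      exact (QuotientGroup.eq_one_iff y).mpr (hRmax ⟨hL.comap _, htop⟩ hle hx)
  have hRs := hsub R hRne
  have hqns : ¬ Group.IsSolvable (G ⧸ R) := fun hq => hns
    ((Group.isSolvable_iff_subgroup_quotient R).mpr ⟨hRs, hq⟩)
  have hna : ¬ IsMulCommutative (G ⧸ R) := fun hc =>
    hqns (Group.isSolvable_of_comm fun a b => hc.is_comm.comm a b)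
  -- supplements of `R`
  have hsupR : ∀ N : Subgroup G, N ⊔ R = ⊤ → N = ⊤ := by
    intro N hN
    by_contra hne
    haveI := hsub N hne
    refine hqns (Group.isSolvable_of_surjective (f := (QuotientGroup.mk' R).comp N.subtype)
      fun z => ?_)
    obtain ⟨x, rfl⟩ := QuotientGroup.mk'_surjective R z
    obtain ⟨a, ha, b, hb, rfl⟩ := mem_sup_of_normal_right.mp (hN.ge (mem_top x))
    exact ⟨⟨a, ha⟩, by simp [(QuotientGroup.eq_one_iff b).mpr hb]⟩
  have hRfr : R ≤ frattini G := by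
    refine le_iInf₂ fun M hM => ?_
    by_contra hRM
    have h1 : M < M ⊔ R := lt_of_le_of_ne le_sup_left fun e => hRM (e ▸ le_sup_right)
    exact hM.1 (hsupR M (hM.2 _ h1))
  haveI hRnil : Group.IsNilpotent R := by
    haveI : Group.IsNilpotent (frattini G) := frattini_nilpotent
    exact Subgroup.isNilpotent_of_ker_le_center (inclusion hRfr)
      (by simp [(MonoidHom.ker_eq_bot_iff _).mpr (inclusion_injective hRfr)])
  have hbig : ∀ N : Subgroup G, N.Normal → ¬ N ≤ R → N = ⊤ := by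
    intro N hN hNR
    haveI := hN
    refine hsupR N ?_
    by_contra hne
    exact hNR (le_sup_left.trans (hRmax ⟨inferInstance, hne⟩ le_sup_right))
  -- values of prime power order outside `R`
  have hval : ∀ p : ℕ, p.Prime → p ∣ Nat.card (G ⧸ R) →
      ∃ w : G, IsVal k w ∧ (∃ i, orderOf w = p ^ i) ∧ w ∉ R := by
    intro p hp hpd
    haveI := Fact.mk hp
    obtain ⟨Q, g, hQ, hg, hgp, hgc⟩ := exists_action hna hpd
    obtain ⟨P, y, hP, hPy, -, hPQ, hyg⟩ := exists_lift_normalizer R hQ hg hgp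
    by_contra hall
    push Not at hall
    refine hgc fun v hv => ?_
    obtain ⟨x, hx, rfl⟩ := mem_map.mp (hPQ.ge hv)
    have hxj : ∀ j, eng y j x ∈ P := fun j => by
      induction j with
      | zero => exact hx
      | succ j ih => rw [eng_succ]; exact hPy _ ih
    obtain ⟨i, hi⟩ := IsPGroup.iff_orderOf.mp hP ⟨_, hxj (k + 1)⟩
    rw [Subgroup.orderOf_mk] at hi
    have hxR := hall _ (isVal_eng' y x k) ⟨i, hi⟩
    refine (commute_of_eng_eq_one Q (fun u hu => ?_) (fun u hu => ?_)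
      (hPQ ▸ mem_map_of_mem _ hx) (n := k + 1) ?_).eq
    · rw [commutatorElement_def, mul_assoc, mul_assoc]
      exact mul_mem hu (by rw [← mul_assoc]; exact (mem_normalizer_iff.mp hg _).mp (inv_mem hu))
    · obtain ⟨i, hi⟩ := IsPGroup.iff_orderOf.mp hQ ⟨u, hu⟩
      rw [Subgroup.orderOf_mk] at hi
      rw [hi]; exact (hgp.pow_right i).symm
    · rw [← hyg, ← map_eng]
      exact (QuotientGroup.eq_one_iff _).mpr hxR
  have heven : 2 ∣ Nat.card (G ⧸ R) := by
    by_contra h2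
    exact hqns (hFT _ (Nat.not_even_iff_odd.mp fun e => h2 e.two_dvd))
  obtain ⟨p, hp, hp2, hpd⟩ : ∃ p, p.Prime ∧ p ≠ 2 ∧ p ∣ Nat.card (G ⧸ R) := by
    by_contra hcon
    push Not at hcon
    have h2 : IsPGroup 2 (G ⧸ R) := IsPGroup.iff_card.mpr ⟨_,
      Nat.eq_prime_pow_of_unique_prime_dvd Nat.card_pos.ne' fun {d} hd hdd =>
        by_contra fun hne => hcon d hd hne hdd⟩
    haveI : Fact (Nat.Prime 2) := ⟨Nat.prime_two⟩
    haveI := h2.isNilpotent
    exact hqns inferInstance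
  -- `R` is central
  have hcore : ∀ s : ℕ, s.Prime → Cfsg.pCore s G ≤ center G := by
    intro s hs
    haveI := Fact.mk hs
    obtain ⟨r, hr, hrs, hrd⟩ : ∃ r, r.Prime ∧ r ≠ s ∧ r ∣ Nat.card (G ⧸ R) := by
      by_cases hs2 : s = 2
      · exact ⟨p, hp, hs2 ▸ hp2, hpd⟩
      · exact ⟨2, Nat.prime_two, Ne.symm hs2, heven⟩
    obtain ⟨w, hw, ⟨i, hi⟩, hwR⟩ := hval r hr hrd
    haveI := CfsgLib.Solvable.pCore_normal (G := G) s
    obtain ⟨j, hj⟩ := IsPGroup.iff_card.mp (CfsgLib.Solvable.isPGroup_pCore (G := G) s)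
    have hwC : w ∈ centralizer (Cfsg.pCore s G : Set G) := fun m hm =>
      (commute_of_normalizes h hw (Cfsg.pCore s G)
        (fun z hz => (CfsgLib.Solvable.pCore_normal (G := G) s).conj_mem z hz w)
        (by rw [hj, hi]; exact Nat.Coprime.pow _ _ ((Nat.coprime_primes hs hr).mpr hrs.symm)) hm).eq
    have hCtop := hbig _ inferInstance fun hle => hwR (hle hwC)
    exact fun m hm => mem_center_iff.mpr fun x => ((hCtop.ge (mem_top x)) m hm).symm
  have hRcen : R ≤ center G := by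
    refine (CfsgLib.Solvable.le_fittingSubgroup hRnil).trans ?_
    rw [CfsgLib.Solvable.fittingSubgroup_eq_iSup]
    exact iSup_le fun s => hcore s s.2
  -- the contradiction
  haveI : Fact (Nat.Prime 2) := ⟨Nat.prime_two⟩
  obtain ⟨Q, g, hQ, hg, hgp, hgc⟩ := exists_action hna heven
  obtain ⟨t, ht, ⟨i, hi⟩, ht2⟩ := exists_involution_value k R hQ hg hgp hgc
  obtain ⟨hu, hu1, huodd, huinv⟩ := Cfsg.Agent.S0200.result _ ht2 (by
    intro N hN hN2 htN
    rcases hN.eq_bot_or_eq_top with e | e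
    · subst e
      rw [mem_bot.mp htN, orderOf_one] at ht2
      omega
    · subst e
      haveI := (hN2.of_equiv topEquiv : IsPGroup 2 (G ⧸ R)).isNilpotent
      exact hqns inferInstance)
  set q := QuotientGroup.mk' R with hq
  have hco2 : (orderOf hu).Coprime 2 := huodd.coprime_two_right
  obtain ⟨x, hx⟩ := QuotientGroup.mk'_surjective R hu
  obtain ⟨u, huo, huq⟩ := exists_coprime_lift Nat.prime_two q x (by rw [hq, hx]; exact hco2)
  rw [hq, hx] at huq
  set z := t * u * t⁻¹ * u with hz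
  have hzR : z ∈ R := by
    rw [← QuotientGroup.eq_one_iff, ← QuotientGroup.mk'_apply, hz, map_mul, map_mul, map_mul,
      map_inv, huq, huinv, inv_mul_cancel]
  have hzc : ∀ b : G, Commute z b := fun b => (mem_center_iff.mp (hRcen hzR) b).symm
  have htu : t * u * t⁻¹ = z * u⁻¹ := by rw [hz, mul_inv_cancel_right]
  have hzm : z ^ orderOf u = 1 := by
    have h1 := congrArg (· ^ orderOf u) htu
    simp only [conj_pow, (hzc u⁻¹).mul_pow, inv_pow, pow_orderOf_eq_one, inv_one, mul_one,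
      mul_inv_cancel] at h1
    exact h1.symm
  have hform : ∀ j, ∃ c : ℤ, eng t j u = u ^ (2 ^ j : ℕ) * z ^ c := by
    intro j
    induction j with
    | zero => exact ⟨0, by simp [eng_zero]⟩
    | succ j ih =>
      obtain ⟨c, hc⟩ := ih
      refine ⟨-(2 ^ j : ℕ), ?_⟩
      have h1 : t * (u ^ (2 ^ j : ℕ) * z ^ c) * t⁻¹ = z ^ (2 ^ j : ℕ) * (u⁻¹) ^ (2 ^ j : ℕ) * z ^ c := by
        rw [← conj_mul, ← conj_pow, htu, (hzc u⁻¹).mul_pow, ← conj_zpow,
          show t * z * t⁻¹ = z by rw [← (hzc t).eq, mul_inv_cancel_right]]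
      rw [eng_succ, hc, commutatorElement_def,
        show u ^ (2 ^ j : ℕ) * z ^ c * t * (u ^ (2 ^ j : ℕ) * z ^ c)⁻¹ * t⁻¹ =
          u ^ (2 ^ j : ℕ) * z ^ c * (t * (u ^ (2 ^ j : ℕ) * z ^ c) * t⁻¹)⁻¹ by group, h1, inv_pow]
      rw [pow_succ, pow_mul, sq, zpow_neg, zpow_natCast]
      calc u ^ 2 ^ j * z ^ c * (z ^ 2 ^ j * (u ^ 2 ^ j)⁻¹ * z ^ c)⁻¹
          = u ^ 2 ^ j * u ^ 2 ^ j * (z ^ 2 ^ j)⁻¹ := by group
        _ = _ := rfl
  obtain ⟨c, hc⟩ := hform (k + 1)
  have hone : eng t (k + 1) u = 1 := by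
    refine eng_eq_one h ht u ?_
    rw [hi]
    refine Nat.Coprime.pow_right i (Nat.Coprime.coprime_dvd_left (orderOf_dvd_of_pow_eq_one ?_) huo)
    rw [hc, ((hzc u).symm.pow_left _).zpow_right c |>.mul_pow, ← zpow_natCast (z ^ c), zpow_comm,
      zpow_natCast, hzm, one_zpow, ← pow_mul, mul_comm, pow_mul, pow_orderOf_eq_one, one_pow, one_mul]
  have h2 := congrArg q hone
  rw [hc, map_mul, map_pow, map_zpow, huq, show q z = 1 from (QuotientGroup.eq_one_iff z).mpr hzR,
    one_zpow, mul_one, map_one] at h2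
  exact hu1 (orderOf_eq_one_iff.mp (Nat.eq_one_of_dvd_coprimes (hco2.pow_right (k + 1)) dvd_rfl
    (orderOf_dvd_of_pow_eq_one h2)))

/-- **Baumslag-Wiegold type criterion**, given the odd order theorem. -/
theorem isNilpotent_lcs_iff
    (hFT : ∀ (H : Type u) [Group H] [Finite H], Odd (Nat.card H) → Group.IsSolvable H) {k : ℕ} :
    Group.IsNilpotent ↥((⊤ : Subgroup G).lowerCentralSeries k) ↔ Cond G k :=
  ⟨cond_of_isNilpotent, fun h => haveI := isSolvable_of_cond hFT h; isNilpotent_lcs_of_solvable h⟩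

end CfsgLib.ValueOrder
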