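import Cfsg.Agent.ValueOrder.Basic
import Cfsg.Agent.Solvable.Fitting
import Cfsg.Agent.Transfer.NormalPComplement
import Cfsg.Agent.Transfer.Frobenius

/-!
# The solvable case: the term of the lower central series is nilpotent
-/

namespace CfsgLib.ValueOrder

open Subgroup CfsgLib.Solvable
open scoped commutatorElement

set_option linter.style.haveILetI false

variable {G : Type*} [Group G] [Finite G]

/-- A finite group in which elements of prime power orders for different primes commute is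
nilpotent. -/
theorem isNilpotent_of_commute
    (h : ∀ (s t : ℕ), s.Prime → t.Prime → s ≠ t → ∀ a b : G, (∃ i, orderOf a = s ^ i) →
      (∃ j, orderOf b = t ^ j) → Commute a b) : Group.IsNilpotent G := by
  refine (Group.isNilpotent_of_finite_tfae.out 0 3).mpr fun p hp P => ?_
  haveI : Fact p.Prime := hp
  refine normalizer_eq_top_iff.mp (eq_top_of_card_eq _ ?_)
  refine Nat.dvd_antisymm (card_subgroup_dvd_card _)
    ((Nat.dvd_iff_prime_pow_dvd_dvd _ _).mpr fun q k hq hqk => ?_)
  haveI := Fact.mk hq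
  let Q : Sylow q G := default
  have hQ : (Q : Subgroup G) ≤ normalizer ((P : Subgroup G) : Set G) ∨ q = p := by
    rcases eq_or_ne q p with e | e
    · exact Or.inr e
    refine Or.inl fun x hx => ?_
    obtain ⟨i, hi⟩ := IsPGroup.iff_orderOf.mp Q.isPGroup' ⟨x, hx⟩
    rw [Subgroup.orderOf_mk] at hi
    rw [mem_normalizer_iff]
    intro y
    have key : ∀ z ∈ (P : Subgroup G), Commute x z := fun z hz => by
      obtain ⟨j, hj⟩ := IsPGroup.iff_orderOf.mp P.isPGroup' ⟨z, hz⟩
      exact h q p hq hp.out e x z ⟨i, hi⟩ ⟨j, by rwa [Subgroup.orderOf_mk] at hj⟩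
    constructor
    · intro hy
      rwa [(key y hy).eq, mul_inv_cancel_right]
    · intro hy
      have h2 : x * y = x * y * x⁻¹ * x := by group
      rw [← (key _ hy).eq] at h2
      rwa [mul_left_cancel h2]
  have hdvd : q ^ k ∣ Nat.card (Q : Subgroup G) := by
    rw [Q.card_eq_multiplicity]
    exact Nat.pow_dvd_pow q ((hq.pow_dvd_iff_le_factorization Nat.card_pos.ne').mp hqk)
  rcases hQ with hQ | e
  · exact hdvd.trans (card_dvd_of_le hQ)
  · subst e
    exact (hdvd.trans (by rw [Q.card_eq_multiplicity, ← P.card_eq_multiplicity])).trans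
      (card_dvd_of_le le_normalizer)

/-- An element of prime power order of the Fitting subgroup lies in the corresponding core. -/
theorem mem_pCore_of_mem_fitting {s : ℕ} [Fact s.Prime] {v : G}
    (hv : v ∈ Cfsg.fittingSubgroup G) {i : ℕ} (hi : orderOf v = s ^ i) : v ∈ Cfsg.pCore s G := by
  set F := Cfsg.fittingSubgroup G
  haveI : Group.IsNilpotent F := fittingSubgroup_isNilpotent
  haveI : F.Normal := fittingSubgroup_normal
  have hz : IsPGroup s (zpowers (⟨v, hv⟩ : F)) :=
    IsPGroup.iff_card.mpr ⟨i, by rw [Nat.card_zpowers, Subgroup.orderOf_mk, hi]⟩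
  obtain ⟨Q, hQ⟩ := hz.exists_le_sylow
  haveI hQn : (Q : Subgroup F).Normal :=
    Q.normal_of_normalizerCondition (Group.normalizerCondition_of_isNilpotent (G := F))
  haveI : (Q : Subgroup F).Characteristic := Q.characteristic_of_normal hQn
  exact le_pCore (Q.isPGroup'.map F.subtype) ⟨⟨v, hv⟩, hQ (mem_zpowers _), rfl⟩

/-- The core argument. -/
theorem le_fitting_of_commute (M : Subgroup G) [M.Normal] {r : ℕ} (hr : r.Prime)
    (hF : ∀ b ∈ M, ∀ s : ℕ, s.Prime → s ≠ r → (∃ i, orderOf b = s ^ i) →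
      b ∈ Cfsg.fittingSubgroup G)
    (hcomm : ∀ a ∈ M, ∀ s : ℕ, s.Prime → s ≠ r → ∀ m ∈ Cfsg.pCore s G, Commute a m) :
    M ≤ Cfsg.fittingSubgroup G := by
  refine le_fittingSubgroup (isNilpotent_of_commute fun s t hs ht hst a b ha hb => ?_)
  refine Subtype.ext ?_
  show (a : G) * b = b * a
  rw [← Subgroup.orderOf_coe] at ha hb
  rcases eq_or_ne t r with e | e
  · haveI := Fact.mk hs
    obtain ⟨i, hi⟩ := ha
    have hsr : s ≠ r := e ▸ hst
    exact (hcomm b b.2 s hs hsr a
      (mem_pCore_of_mem_fitting (hF a a.2 s hs hsr ⟨i, hi⟩) hi)).eq.symm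
  · haveI := Fact.mk ht
    obtain ⟨j, hj⟩ := hb
    exact (hcomm a a.2 t ht e b (mem_pCore_of_mem_fitting (hF b b.2 t ht e ⟨j, hj⟩) hj)).eq

/-- The elements centralising all cores for primes other than `r`. -/
def coCent (r : ℕ) (G : Type*) [Group G] : Subgroup G :=
  ⨅ s : {s : ℕ // s.Prime ∧ s ≠ r}, centralizer (Cfsg.pCore (s : ℕ) G : Set G)

theorem mem_coCent {r : ℕ} {x : G} :
    x ∈ coCent r G ↔ ∀ s : ℕ, s.Prime → s ≠ r → ∀ m ∈ Cfsg.pCore s G, Commute x m := by
  rw [coCent, mem_iInf]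
  exact ⟨fun h s hs hsr m hm => (h ⟨s, hs, hsr⟩ m hm).symm,
    fun h s m hm => (h s s.2.1 s.2.2 m hm).symm.eq⟩

instance coCent_normal (r : ℕ) : (coCent r G).Normal := by
  refine Subgroup.normal_iInf_normal fun s => ?_
  haveI := pCore_normal (G := G) (s : ℕ)
  infer_instance

/-- A power with the same image of order prime to `r`. -/
theorem exists_coprime_lift {H : Type*} [Group H] {r : ℕ} (hr : r.Prime) (f : G →* H) (x : G)
    (h : (orderOf (f x)).Coprime r) :
    ∃ y : G, (orderOf y).Coprime r ∧ f y = f x := by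
  set a := (orderOf x).factorization r
  set m := orderOf (f x)
  obtain ⟨u, hu1, hu2⟩ := Nat.chineseRemainder (h.pow_right a) 1 0
  obtain ⟨j, hj⟩ := Nat.modEq_zero_iff_dvd.mp hu2
  refine ⟨x ^ u, ?_, ?_⟩
  · refine Nat.Coprime.coprime_dvd_left ?_ (Nat.coprime_ordCompl hr (orderOf_pos x).ne').symm
    apply orderOf_dvd_of_pow_eq_one
    rw [hj, ← pow_mul, mul_comm (r ^ a) j, mul_assoc, Nat.ordProj_mul_ordCompl_eq_self,
      mul_comm, pow_mul, pow_orderOf_eq_one, one_pow]
  · rw [map_pow, pow_eq_pow_iff_modEq.mpr hu1, pow_one]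

/-- In a solvable group with the order condition, the term of the lower central series is
nilpotent. -/
theorem isNilpotent_lcs_of_solvable [Group.IsSolvable G] {k : ℕ} (h : Cond G k) :
    Group.IsNilpotent ↥((⊤ : Subgroup G).lowerCentralSeries k) := by
  set F := Cfsg.fittingSubgroup G with hFdef
  haveI hFn : F.Normal := fittingSubgroup_normal
  haveI : Group.IsNilpotent F := fittingSubgroup_isNilpotent
  suffices hle : (⊤ : Subgroup G).lowerCentralSeries k ≤ F from
    Subgroup.isNilpotent_of_ker_le_center (inclusion hle) (by simp [(MonoidHom.ker_eq_bot_iff _).mpr (inclusion_injective hle)])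
  set q := QuotientGroup.mk' F with hq
  -- values of prime power order whose image lies in a core of the quotient lie in `F`
  have key : ∀ r : ℕ, r.Prime → ∀ w : G, IsVal k w → (∃ i, orderOf w = r ^ i) →
      q w ∈ Cfsg.pCore r (G ⧸ F) → w ∈ F := by
    intro r hr w hw ⟨i, hi⟩ hwN
    haveI := Fact.mk hr
    haveI := pCore_normal (G := G ⧸ F) r
    set M := coCent r G ⊓ (Cfsg.pCore r (G ⧸ F)).comap q
    have hwM : w ∈ M := by
      refine ⟨mem_coCent.mpr fun s hs hsr m hm => ?_, hwN⟩
      haveI := Fact.mk hs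
      obtain ⟨j, hj⟩ := IsPGroup.iff_card.mp (isPGroup_pCore (G := G) s)
      exact (commute_of_normalizes h hw (Cfsg.pCore s G)
        (fun n hn => (pCore_normal (G := G) s).conj_mem n hn w)
        (by rw [hj, hi]; exact Nat.Coprime.pow _ _ ((Nat.coprime_primes hs hr).mpr hsr)) hm).symm
    refine le_fitting_of_commute M hr (fun b hb s hs hsr ⟨j, hj⟩ => ?_)
      (fun a ha => mem_coCent.mp ha.1) hwM
    rw [hFdef.symm, ← QuotientGroup.eq_one_iff, ← orderOf_eq_one_iff]
    obtain ⟨l, hl⟩ := IsPGroup.iff_orderOf.mp (isPGroup_pCore (G := G ⧸ F) r) ⟨q b, hb.2⟩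
    have hl' : orderOf (q b) = r ^ l := (Subgroup.orderOf_coe _).trans hl
    have hd : orderOf (q b) ∣ s ^ j := hj ▸ orderOf_map_dvd q b
    exact Nat.eq_one_of_dvd_coprimes (Nat.Coprime.pow l j ((Nat.coprime_primes hr hs).mpr hsr.symm))
      hl'.dvd hd
  -- elements of order prime to `r` centralise the `r`-core of the quotient
  have hcent : ∀ r : ℕ, r.Prime → ∀ g : G ⧸ F, (orderOf g).Coprime r →
      ∀ m ∈ Cfsg.pCore r (G ⧸ F), Commute g m := by
    intro r hr g hg
    haveI := Fact.mk hr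
    haveI := pCore_normal (G := G ⧸ F) r
    set N := (Cfsg.pCore r (G ⧸ F)).comap q
    obtain ⟨R0⟩ : Nonempty (Sylow r N) := inferInstance
    set R := (R0 : Subgroup N).map N.subtype
    have hRp : IsPGroup r R := R0.isPGroup'.map _
    have hFr : normalizer (R : Set G) ⊔ N = ⊤ := R0.normalizer_sup_eq_top
    -- `N = R F`
    have hNRF : N ≤ R ⊔ F := by
      refine fun x hx => ?_
      have hs : Function.Surjective ((q.subgroupComap (Cfsg.pCore r (G ⧸ F)))) :=
        MonoidHom.subgroupComap_surjective_of_surjective _ _ (QuotientGroup.mk'_surjective F)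
      have hR1 : (R0.mapSurjective hs : Subgroup (Cfsg.pCore r (G ⧸ F))) = ⊤ :=
        top_unique ((IsPGroup.to_subgroup (isPGroup_pCore r) ⊤).le_sylow_of_normal _)
      rw [Sylow.coe_mapSurjective] at hR1
      obtain ⟨y, hy, hyx⟩ := mem_map.mp (hR1.ge (mem_top ⟨q x, hx⟩))
      have e : q (y : G) = q x := congrArg Subtype.val hyx
      rw [← mul_inv_cancel_left (y : G) x]
      refine mul_mem_sup ⟨y, hy, rfl⟩ ?_
      rw [← QuotientGroup.eq]; exact e
    have hsup : normalizer (R : Set G) ⊔ F = ⊤ := top_unique (hFr ▸ sup_le le_sup_left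
      (hNRF.trans (sup_le (le_normalizer.trans le_sup_left) le_sup_right)))
    obtain ⟨x, rfl⟩ := QuotientGroup.mk'_surjective F g
    obtain ⟨a, ha, b, hb, rfl⟩ := mem_sup_of_normal_right.mp (hsup.ge (mem_top x))
    have hqa : q (a * b) = q a := by
      rw [map_mul, show q b = 1 from (QuotientGroup.eq_one_iff b).mpr hb, mul_one]
    rw [hqa] at hg
    obtain ⟨y, hy, hyq⟩ := exists_coprime_lift hr (q.comp (normalizer (R : Set G)).subtype) ⟨a, ha⟩ hg
    intro m hm
    obtain ⟨v, rfl⟩ := QuotientGroup.mk'_surjective F m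
    obtain ⟨u, hu, f, hf, rfl⟩ := mem_sup_of_normal_right.mp (hNRF (show v ∈ N from hm))
    have hqu : q (u * f) = q u := by
      rw [map_mul, show q f = 1 from (QuotientGroup.eq_one_iff f).mpr hf, mul_one]
    rw [hqa, show q a = q (y : G) from hyq.symm, hqu]
    have hRy : ∀ z ∈ R, ⁅z, (y : G)⁆ ∈ R := fun z hz => by
      rw [commutatorElement_def, mul_assoc, mul_assoc]
      exact mul_mem hz (by
        rw [← mul_assoc]; exact (mem_normalizer_iff.mp y.2 _).mp (inv_mem hz))
    have heng : ∀ z ∈ R, eng (y : G) (k + 1) z ∈ F := by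
      intro z hz
      have hzj : ∀ j, eng (y : G) j z ∈ R := fun j => by
        induction j with
        | zero => exact hz
        | succ j ih => rw [eng_succ]; exact hRy _ ih
      obtain ⟨i, hi⟩ := IsPGroup.iff_orderOf.mp hRp ⟨_, hzj (k + 1)⟩
      refine key r hr _ (isVal_eng' _ _ _) ⟨i, by rwa [Subgroup.orderOf_mk] at hi⟩ ?_
      obtain ⟨w', -, hw'⟩ := mem_map.mp (hzj (k + 1))
      exact hw' ▸ w'.2
    refine (commute_of_eng_eq_one (R.map q) ?_ ?_ (mem_map_of_mem q hu) (n := k + 1) ?_).symm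
    · rintro _ ⟨z, hz, rfl⟩
      exact ⟨_, hRy z hz, map_commutatorElement q z (y : G)⟩
    · rintro _ ⟨z, hz, rfl⟩
      obtain ⟨i, hi⟩ := IsPGroup.iff_orderOf.mp hRp ⟨z, hz⟩
      rw [Subgroup.orderOf_mk] at hi
      refine ((Nat.Coprime.pow_right i ?_).symm.coprime_dvd_left (hi ▸ orderOf_map_dvd q z))
      exact Nat.Coprime.coprime_dvd_left
        ((orderOf_map_dvd q _).trans (Subgroup.orderOf_coe y).dvd) hy
    · rw [← map_eng]; exact (QuotientGroup.eq_one_iff _).mpr (heng u hu)
  -- hence the quotient is nilpotent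
  haveI hQnil : Group.IsNilpotent (G ⧸ F) := by
    refine isNilpotent_of_commute fun s t hs ht hst a b ⟨i, hi⟩ ⟨j, hj⟩ => ?_
    have hin : ∀ (s : ℕ), s.Prime → ∀ a : G ⧸ F, (∃ i, orderOf a = s ^ i) →
        a ∈ Cfsg.fittingSubgroup (G ⧸ F) := by
      intro s hs a ⟨i, hi⟩
      have haD : a ∈ coCent s (G ⧸ F) := mem_coCent.mpr fun u hu hus m hm => hcent u hu a
        (hi ▸ Nat.Coprime.pow_left i ((Nat.coprime_primes hs hu).mpr hus.symm)) m hm
      refine le_fitting_of_commute (coCent s (G ⧸ F)) hs (fun b hb u hu hus ⟨j, hj⟩ => ?_)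
        (fun c hc => mem_coCent.mp hc) haD
      apply CfsgLib.Solvable.centralizer_fittingSubgroup_le
      have hall : ∀ w : ℕ, w.Prime → ∀ m ∈ Cfsg.pCore w (G ⧸ F), Commute b m := fun w hw m hm => by
        rcases eq_or_ne w s with rfl | hws
        · exact hcent w hw b (hj ▸ Nat.Coprime.pow_left j ((Nat.coprime_primes hu hw).mpr hus)) m hm
        · exact mem_coCent.mp hb w hw hws m hm
      intro m hm
      have hle : Cfsg.fittingSubgroup (G ⧸ F) ≤ centralizer ({b} : Set (G ⧸ F)) := by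
        rw [fittingSubgroup_eq_iSup]
        exact iSup_le fun w z hz => mem_centralizer_singleton_iff.mpr (hall w w.2 z hz).symm.eq
      exact mem_centralizer_singleton_iff.mp (hle hm)
    haveI := Fact.mk hs
    haveI := Fact.mk ht
    haveI : Group.IsNilpotent (Cfsg.fittingSubgroup (G ⧸ F)) := fittingSubgroup_isNilpotent
    have h1 := commute_of_coprime (⟨a, hin s hs a ⟨i, hi⟩⟩ : Cfsg.fittingSubgroup (G ⧸ F))
      ⟨b, hin t ht b ⟨j, hj⟩⟩ (by
        rw [Subgroup.orderOf_mk, Subgroup.orderOf_mk, hi, hj]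
        exact Nat.Coprime.pow _ _ ((Nat.coprime_primes hs ht).mpr hst))
      (N := Cfsg.fittingSubgroup (G ⧸ F))
    exact congrArg Subtype.val h1.eq
  refine lcs_le F fun x hx => (QuotientGroup.eq_one_iff x).mp ?_
  rw [← orderOf_eq_one_iff]
  by_contra hne
  obtain ⟨r, hr, hrd⟩ := Nat.exists_prime_and_dvd hne
  haveI := Fact.mk hr
  have hx' : q x ∈ Cfsg.pResidual r (G ⧸ F) := by
    set f := (QuotientGroup.mk' (Cfsg.pResidual r (G ⧸ F))).comp q
    obtain ⟨R⟩ : Nonempty (Sylow r G) := inferInstance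
    have hf : Function.Surjective f :=
      (QuotientGroup.mk'_surjective _).comp (QuotientGroup.mk'_surjective F)
    have hs : Function.Surjective (f.comp (R : Subgroup G).subtype) := by
      have h1 : (R.mapSurjective hf : Subgroup ((G ⧸ F) ⧸ Cfsg.pResidual r (G ⧸ F))) = ⊤ := top_unique
        ((IsPGroup.to_subgroup CfsgLib.Transfer.isPGroup_quotient_pResidual ⊤).le_sylow_of_normal _)
      rw [Sylow.coe_mapSurjective] at h1
      intro z
      obtain ⟨y, hy, hyz⟩ := mem_map.mp (h1.ge (mem_top z))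
      exact ⟨⟨y, hy⟩, hyz⟩
    obtain ⟨v, hv, hvx⟩ := exists_isVal_lift hs (isVal_map f hx)
    obtain ⟨i, hi⟩ := IsPGroup.iff_orderOf.mp R.isPGroup' v
    have hqv : q (v : G) ∈ Cfsg.pCore r (G ⧸ F) := by
      have hz : IsPGroup r (zpowers (q (v : G))) := by
        obtain ⟨l, -, hl⟩ := (Nat.dvd_prime_pow hr).mp
          ((orderOf_map_dvd q (v : G)).trans (by rw [Subgroup.orderOf_coe, hi]))
        exact IsPGroup.iff_card.mpr ⟨l, by rw [Nat.card_zpowers, hl]⟩
      obtain ⟨Q, hQ⟩ := hz.exists_le_sylow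
      haveI : (Q : Subgroup (G ⧸ F)).Normal :=
        Q.normal_of_normalizerCondition (Group.normalizerCondition_of_isNilpotent (G := G ⧸ F))
      exact le_pCore Q.isPGroup' (hQ (mem_zpowers _))
    have hvF := key r hr v (isVal_map (R : Subgroup G).subtype hv) ⟨i, by rwa [Subgroup.orderOf_coe]⟩ hqv
    rw [← QuotientGroup.eq_one_iff]
    show f x = 1
    rw [← hvx]
    show QuotientGroup.mk' _ (q (v : G)) = 1
    rw [show q (v : G) = 1 from (QuotientGroup.eq_one_iff _).mpr hvF, map_one]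
  have hco := (CfsgLib.Transfer.mem_pResidual_iff
    CfsgLib.Transfer.hasNormalPComplement_of_isNilpotent).mp hx'
  exact (hr.coprime_iff_not_dvd.mp hco.symm) hrd

end CfsgLib.ValueOrder
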